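import Cfsg.Agent.Helper15.Gallagher
import Cfsg.Agent.Helper74.CharCenter
import Cfsg.Agent.Helper74.DegP3
import Cfsg.Agent.Helper82.GaloisConj
import Cfsg.Agent.Helper79.CharBasic

/-!
# Faithful characters with an irreducible product `χ · χ^(k)` (helper79)

Core counting argument for S4843: if `χ` is a faithful irreducible character of `G`, `k` is
coprime to `|G|` and `g ↦ χ g * χ (g ^ k)` is irreducible, then a normal subgroup `N` with
`[N, N] ≤ Z(G)` on which the "good" elements of each coset are conjugate up to the centre is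
abelian (`class_two_normal_abelian`).
-/

set_option autoImplicit false

namespace Cfsg.Agent.Helper79.IrrProd

open Cfsg
open scoped ComplexConjugate

universe u

variable {G : Type u} [Group G]

/-- A class function `f` on which the centre acts through the injective unitary "central
character" `ν`. -/
structure Twisted (f ν : G → ℂ) : Prop where
  cls : ∀ g h : G, f (h⁻¹ * g * h) = f g
  central : ∀ z ∈ Subgroup.center G, ∀ g, f (g * z) = ν z * f g
  norm_one : ∀ z ∈ Subgroup.center G, ‖ν z‖ = 1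
  inj : ∀ z ∈ Subgroup.center G, ν z = 1 → z = 1

/-- `x * n` commutes with every `d ∈ N` whose commutator with `x` is central. -/
def Good (N : Subgroup G) (x n : G) : Prop :=
  ∀ d ∈ N, x⁻¹ * d⁻¹ * x * d ∈ Subgroup.center G → (x * n) * d = d * (x * n)

/-- Any two good elements of a coset of `N` are conjugate under `N` up to a central factor. -/
def ConjCentral (N : Subgroup G) : Prop :=
  ∀ x n n' : G, n ∈ N → n' ∈ N → Good N x n → Good N x n' →
    ∃ m ∈ N, ∃ z ∈ Subgroup.center G, x * n' = m⁻¹ * (x * n) * m * z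

theorem Twisted.eq_zero_of_not_good {f ν : G → ℂ} (hf : Twisted f ν) (N : Subgroup G)
    (hcomm : ∀ a ∈ N, ∀ b ∈ N, a⁻¹ * b⁻¹ * a * b ∈ Subgroup.center G)
    (x n : G) (hn : n ∈ N) (h : ¬ Good N x n) : f (x * n) = 0 := by
  unfold Good at h
  push Not at h
  obtain ⟨d, hd, hxd, hne⟩ := h
  have hnd := hcomm n hn d hd
  set c1 := x⁻¹ * d⁻¹ * x * d with hc1
  set c2 := n⁻¹ * d⁻¹ * n * d with hc2
  have hz : (x * n)⁻¹ * d⁻¹ * (x * n) * d = c1 * c2 := by
    have h1 : (x * n)⁻¹ * d⁻¹ * (x * n) * d = n⁻¹ * c1 * (d⁻¹ * n * d) := by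
      rw [hc1]; group
    have h2 : n⁻¹ * c1 = c1 * n⁻¹ := Subgroup.mem_center_iff.mp hxd n⁻¹
    rw [h1, h2, hc2]; group
  have hzc : c1 * c2 ∈ Subgroup.center G := Subgroup.mul_mem _ hxd hnd
  have hzne : c1 * c2 ≠ 1 := by
    intro h1
    apply hne
    rw [← hz] at h1
    have : d⁻¹ * (x * n) * d = x * n := by
      calc d⁻¹ * (x * n) * d = (x * n) * ((x * n)⁻¹ * d⁻¹ * (x * n) * d) := by group
        _ = x * n := by rw [h1, mul_one]
    calc x * n * d = d * (d⁻¹ * (x * n) * d) := by group
      _ = d * (x * n) := by rw [this]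
  have hconj : d⁻¹ * (x * n) * d = (x * n) * (c1 * c2) := by
    rw [← hz]; group
  have h3 : f (x * n) = ν (c1 * c2) * f (x * n) := by
    conv_lhs => rw [← hf.cls (x * n) d, hconj, hf.central _ hzc]
  have hν : ν (c1 * c2) ≠ 1 := fun h => hzne (hf.inj _ hzc h)
  have h4 : (1 - ν (c1 * c2)) * f (x * n) = 0 := by
    rw [sub_mul, one_mul, ← h3, sub_self]
  rcases mul_eq_zero.mp h4 with h5 | h5
  · exact absurd (sub_eq_zero.mp h5).symm hν
  · exact h5

theorem Twisted.norm_eq_of_good {f ν : G → ℂ} (hf : Twisted f ν) (N : Subgroup G)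
    (hB1 : ConjCentral N) (x n n' : G) (hn : n ∈ N) (hn' : n' ∈ N)
    (hg : Good N x n) (hg' : Good N x n') : ‖f (x * n')‖ = ‖f (x * n)‖ := by
  obtain ⟨m, -, z, hz, h⟩ := hB1 x n n' hn hn' hg hg'
  rw [h, hf.central z hz, hf.cls, norm_mul, hf.norm_one z hz, one_mul]

/-- Precomposing a twisted function with a power map coprime to the group order. -/
theorem Twisted.pow [Finite G] {f ν : G → ℂ} (hf : Twisted f ν) (k : ℕ)
    (hk : Nat.Coprime k (Nat.card G)) :
    Twisted (fun g => f (g ^ k)) (fun z => ν (z ^ k)) where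
  cls g h := by
    show f ((h⁻¹ * g * h) ^ k) = f (g ^ k)
    have : (h⁻¹ * g * h) ^ k = h⁻¹ * g ^ k * h := by
      have := conj_pow (a := h⁻¹) (b := g) (i := k)
      simpa using this
    rw [this, hf.cls]
  central z hz g := by
    show f ((g * z) ^ k) = ν (z ^ k) * f (g ^ k)
    have hc : Commute g z := Subgroup.mem_center_iff.mp hz g
    rw [hc.mul_pow, hf.central _ (Subgroup.pow_mem _ hz k)]
  norm_one z hz := hf.norm_one _ (Subgroup.pow_mem _ hz k)
  inj z hz h := by
    have h1 := hf.inj _ (Subgroup.pow_mem _ hz k) h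
    have h2 : orderOf z ∣ k := orderOf_dvd_of_pow_eq_one h1
    have h3 : orderOf z ∣ Nat.card G := orderOf_dvd_natCard z
    have h4 : orderOf z = 1 := Nat.eq_one_of_dvd_coprimes hk h2 h3
    exact orderOf_eq_one_iff.mp h4

theorem twisted_of_faithful [Finite G] (χ : G → ℂ) (hχ : IsIrrCharacter G χ)
    (hfaith : ∀ g : G, χ g = χ 1 → g = 1) : Twisted χ (fun z => χ z / χ 1) := by
  classical
  have : Fintype G := Fintype.ofFinite G
  let X : IrrCharacter G := ⟨χ, hχ⟩
  have hchr := Helper74.isCharacter_of_isIrr hχ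
  have hcls := Helper74.isClassFunction_of_isCharacter hchr
  obtain ⟨d, hd, hd1⟩ := Helper15.irr_degree_pos hχ
  have h1 : χ 1 ≠ 0 := by rw [hd1]; exact_mod_cast hd.ne'
  have hscal : ∀ z ∈ Subgroup.center G, ∀ g, χ (g * z) = (χ z / χ 1) * χ g := by
    intro z hz g
    obtain ⟨c, hc⟩ := Helper74.center_le_charCenter X hz
    have hchar : ∀ g, χ g = (Helper74.irrRep X).character g := fun g => by
      rw [Helper74.irrRep_character]
    have key : ∀ g, χ (g * z) = c * χ g := by
      intro g
      rw [hchar, hchar, Representation.character, Representation.character, map_mul, hc]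
      have : (Helper74.irrRep X) g * c • (LinearMap.id : (Fin (Helper74.irrDim X) → ℂ) →ₗ[ℂ] _)
          = c • (Helper74.irrRep X) g := by
        ext v i
        simp
      rw [this, map_smul, smul_eq_mul]
    have hcz : c = χ z / χ 1 := by
      have := key 1
      rw [one_mul] at this
      rw [this, mul_div_assoc, div_self h1, mul_one]
    rw [← hcz]; exact key g
  refine ⟨?_, hscal, ?_, ?_⟩
  · intro g h
    have := hcls g h⁻¹
    simpa using this
  · intro z hz
    have hmem := Helper74.center_le_charCenter X hz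
    rw [Helper74.mem_charCenter_iff] at hmem
    have hdeg : (charDegree χ : ℂ) = χ 1 := Helper74.charDegree_cast hchr
    have h2 : ‖χ 1‖ = (charDegree χ : ℝ) := by
      rw [← hdeg]; simp
    show ‖χ z / χ 1‖ = 1
    rw [norm_div, h2]
    have h3 : ‖χ z‖ = (charDegree χ : ℝ) := hmem
    rw [h3]
    apply div_self
    rw [← h2]
    exact norm_ne_zero_iff.mpr h1
  · intro z _ h
    apply hfaith
    have h2 : χ z / χ 1 = 1 := h
    rw [div_eq_one_iff_eq h1] at h2
    exact h2

theorem sum_mul_sum_eq_card {ι : Type*} [Fintype ι] (S : Finset ι) (u v : ι → ℝ)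
    (hu0 : ∀ i, i ∉ S → u i = 0) (hv0 : ∀ i, i ∉ S → v i = 0)
    (huc : ∀ i ∈ S, ∀ j ∈ S, u i = u j) (hvc : ∀ i ∈ S, ∀ j ∈ S, v i = v j) :
    (∑ i, u i) * (∑ i, v i) = S.card * ∑ i, u i * v i := by
  classical
  have hu : ∑ i, u i = ∑ i ∈ S, u i := by
    symm
    apply Finset.sum_subset (Finset.subset_univ _)
    intro i _ hi
    exact hu0 i hi
  have hv : ∑ i, v i = ∑ i ∈ S, v i := by
    symm
    apply Finset.sum_subset (Finset.subset_univ _)
    intro i _ hi
    exact hv0 i hi
  have huv : ∑ i, u i * v i = ∑ i ∈ S, u i * v i := by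
    symm
    apply Finset.sum_subset (Finset.subset_univ _)
    intro i _ hi
    rw [hu0 i hi, zero_mul]
  rw [hu, hv, huv]
  rcases S.eq_empty_or_nonempty with rfl | ⟨i₀, hi₀⟩
  · simp
  · have e1 : ∑ i ∈ S, u i = S.card * u i₀ := by
      rw [Finset.sum_congr rfl (g := fun _ => u i₀) (fun i hi => huc i hi i₀ hi₀)]
      simp
    have e2 : ∑ i ∈ S, v i = S.card * v i₀ := by
      rw [Finset.sum_congr rfl (g := fun _ => v i₀) (fun i hi => hvc i hi i₀ hi₀)]
      simp
    have e3 : ∑ i ∈ S, u i * v i = S.card * (u i₀ * v i₀) := by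
      rw [Finset.sum_congr rfl (g := fun _ => u i₀ * v i₀)
        (fun i hi => by rw [huc i hi i₀ hi₀, hvc i hi i₀ hi₀])]
      simp
    rw [e1, e2, e3]
    ring

theorem coset_identity [Finite G] {f₁ ν₁ f₂ ν₂ : G → ℂ} (h₁ : Twisted f₁ ν₁)
    (h₂ : Twisted f₂ ν₂) (N : Subgroup G) [Fintype N]
    (hcomm : ∀ a ∈ N, ∀ b ∈ N, a⁻¹ * b⁻¹ * a * b ∈ Subgroup.center G)
    (hB1 : ConjCentral N) (x : G) :
    ∃ c : ℕ, c ≤ Nat.card N ∧
      (x ∈ N → (¬ ∀ a ∈ N, ∀ b ∈ N, a * b = b * a) → 2 * c ≤ Nat.card N) ∧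
      (∑ n : N, ‖f₁ (x * n)‖ ^ 2) * (∑ n : N, ‖f₂ (x * n)‖ ^ 2)
        = c * ∑ n : N, ‖f₁ (x * n)‖ ^ 2 * ‖f₂ (x * n)‖ ^ 2 := by
  classical
  let S : Finset N := Finset.univ.filter (fun n : N => Good N x n)
  have hS : ∀ n : N, n ∈ S ↔ Good N x n := fun n => by simp [S]
  refine ⟨S.card, ?_, ?_, ?_⟩
  · rw [Nat.card_eq_fintype_card]
    exact Finset.card_le_univ S
  · intro hx hnab
    let Zc : Subgroup N := Subgroup.center N
    have hle : S.card ≤ Nat.card Zc := by
      let T : Finset N := Finset.univ.filter (fun n : N => n ∈ Zc)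
      have hT : T.card = Nat.card Zc := by
        rw [Nat.card_eq_fintype_card, Fintype.card_subtype]
      rw [← hT]
      apply Finset.card_le_card_of_injOn (fun n : N => (⟨x, hx⟩ : N) * n)
      · intro n hn
        have hg : Good N x n := (hS n).mp hn
        simp only [T, Finset.coe_filter, Finset.mem_univ, true_and, Set.mem_ofPred_eq]
        show (⟨x, hx⟩ : N) * n ∈ Subgroup.center N
        rw [Subgroup.mem_center_iff]
        intro d
        apply Subtype.ext
        have := hg d d.2 (hcomm x hx d d.2)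
        simp only [Subgroup.coe_mul]
        exact this.symm
      · intro a _ b _ hab
        exact mul_left_cancel hab
    have hidx : 2 ≤ Zc.index := by
      have h0 : Zc.index ≠ 0 := Subgroup.index_ne_zero_of_finite
      have h1 : Zc.index ≠ 1 := by
        intro h
        rw [Subgroup.index_eq_one] at h
        apply hnab
        intro a ha b hb
        have hmem : (⟨a, ha⟩ : N) ∈ Zc := by rw [h]; trivial
        have := Subgroup.mem_center_iff.mp hmem ⟨b, hb⟩
        have h2 := congrArg Subtype.val this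
        simpa using h2.symm
      omega
    have hmul := Subgroup.card_mul_index Zc
    calc 2 * S.card ≤ 2 * Nat.card Zc := by omega
      _ ≤ Zc.index * Nat.card Zc := Nat.mul_le_mul_right _ hidx
      _ = Nat.card N := by rw [mul_comm]; exact hmul
  · apply sum_mul_sum_eq_card S
    · intro n hn
      have hng : ¬ Good N x n := fun h => hn ((hS n).mpr h)
      rw [h₁.eq_zero_of_not_good N hcomm x n n.2 hng]; simp
    · intro n hn
      have hng : ¬ Good N x n := fun h => hn ((hS n).mpr h)
      rw [h₂.eq_zero_of_not_good N hcomm x n n.2 hng]; simp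
    · intro n hn n' hn'
      rw [h₁.norm_eq_of_good N hB1 x n' n n'.2 n.2 ((hS n').mp hn') ((hS n).mp hn)]
    · intro n hn n' hn'
      rw [h₂.norm_eq_of_good N hB1 x n' n n'.2 n.2 ((hS n').mp hn') ((hS n).mp hn)]

theorem coset_sum_irr [Fintype G] (N : Subgroup G) [N.Normal] [Fintype N] (θ : IrrCharacter G)
    (x : G) :
    ∑ n : N, (θ : G → ℂ) (x * n) =
      if classInner (fun n : N => (θ : G → ℂ) n) (fun _ => (1 : ℂ)) = 0 then 0
      else (Nat.card N : ℂ) * (θ : G → ℂ) x := by
  have hcls := Helper74.isClassFunction_of_isCharacter (Helper74.irr_isCharacter θ)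
  have hsw : ∀ n : N, (θ : G → ℂ) (x * n) = (θ : G → ℂ) ((n : G) * x) := by
    intro n
    rw [← hcls (x * n) n]
    group
  simp_rw [hsw]
  split_ifs with h
  · exact Helper15.sum_normal_translate_eq_zero N θ.2 h x
  · have : ∀ n : N, (θ : G → ℂ) ((n : G) * x) = (θ : G → ℂ) x := fun n =>
      Helper15.normal_mul_of_inner_one_ne_zero N θ.2 h n x
    simp_rw [this]
    rw [Finset.sum_const, Finset.card_univ, nsmul_eq_mul, Nat.card_eq_fintype_card]

theorem lower_bound [Fintype G] (N : Subgroup G) [N.Normal] [Fintype N] {α β : G → ℂ}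
    (hα : IsCharacter G α) (hβ : IsCharacter G β) (hβreal : ∀ g, conj (β g) = β g)
    (ha1 : classInner α (fun _ => (1 : ℂ)) = 1) (hb1 : classInner β (fun _ => (1 : ℂ)) = 1) :
    ∃ r : ℕ, 1 ≤ r ∧ ∑ x : G, (∑ n : N, α (x * n)) * (∑ n : N, β (x * n))
      = (Nat.card N : ℂ) ^ 2 * (Nat.card G : ℂ) * r := by
  classical
  have := Helper74.irrFintype G
  choose ma hma using fun θ : IrrCharacter G => Helper74.isCharacter_inner_irr_nat hα θ
  choose mb hmb using fun θ : IrrCharacter G => Helper74.isCharacter_inner_irr_nat hβ θ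
  let I : IrrCharacter G → Prop := fun θ =>
    classInner (fun n : N => (θ : G → ℂ) n) (fun _ => (1 : ℂ)) ≠ 0
  refine ⟨∑ θ : IrrCharacter G, if I θ then ma θ * mb θ else 0, ?_, ?_⟩
  · let one : IrrCharacter G := ⟨fun _ => 1, Helper15.isIrrCharacter_one G⟩
    have hI1 : I one := by
      show classInner (fun _ : N => (1 : ℂ)) (fun _ => (1 : ℂ)) ≠ 0
      have := Helper79.classInner_irr_self (⟨fun _ => 1, Helper15.isIrrCharacter_one N⟩ :
        IrrCharacter N)
      simp only at this
      rw [this]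
      exact one_ne_zero
    have h1 : ma one = 1 := by
      have := hma one
      rw [ha1] at this
      exact_mod_cast this.symm
    have h2 : mb one = 1 := by
      have := hmb one
      rw [hb1] at this
      exact_mod_cast this.symm
    calc 1 = (if I one then ma one * mb one else 0) := by rw [if_pos hI1, h1, h2]
      _ ≤ _ := Finset.single_le_sum (f := fun θ => if I θ then ma θ * mb θ else 0)
        (fun _ _ => Nat.zero_le _) (Finset.mem_univ one)
  · have hαsum := Helper74.isCharacter_eq_sum_irr hα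
    have hαg : ∀ g, α g = ∑ θ : IrrCharacter G, (ma θ : ℂ) * (θ : G → ℂ) g := by
      intro g
      conv_lhs => rw [hαsum]
      rw [Finset.sum_apply]
      refine Finset.sum_congr rfl fun θ _ => ?_
      rw [Pi.smul_apply, smul_eq_mul, hma]
    have hA : ∀ x, ∑ n : N, α (x * n) = ∑ θ : IrrCharacter G,
        (ma θ : ℂ) * (if I θ then (Nat.card N : ℂ) * (θ : G → ℂ) x else 0) := by
      intro x
      simp_rw [hαg]
      rw [Finset.sum_comm]
      refine Finset.sum_congr rfl fun θ _ => ?_
      rw [← Finset.mul_sum, coset_sum_irr N θ x]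
      by_cases h : I θ
      · rw [if_pos h, if_neg h]
      · rw [if_neg h, if_pos (not_not.mp h)]
    have hB : ∀ θ : IrrCharacter G, I θ → ∑ x : G, (θ : G → ℂ) x * ∑ n : N, β (x * n)
        = (Nat.card N : ℂ) * (Nat.card G : ℂ) * (mb θ : ℂ) := by
      intro θ hθ
      have hcls := Helper74.isClassFunction_of_isCharacter (Helper74.irr_isCharacter θ)
      have hinv : ∀ (x : G) (n : N), (θ : G → ℂ) (x * n) = (θ : G → ℂ) x := by
        intro x n
        have h1 : (θ : G → ℂ) (x * n) = (θ : G → ℂ) ((n : G) * x) := by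
          rw [← hcls (x * n) n]
          group
        rw [h1]
        exact Helper15.normal_mul_of_inner_one_ne_zero N θ.2 hθ n x
      have hin : classInner (θ : G → ℂ) β = (mb θ : ℂ) := by
        rw [← Helper74.classInner_conj_symm, hmb]
        simp
      have hsum : ∑ g : G, (θ : G → ℂ) g * β g = (Nat.card G : ℂ) * (mb θ : ℂ) := by
        rw [← hin, Helper74.classInner_def]
        have hG : (Nat.card G : ℂ) ≠ 0 := by exact_mod_cast Nat.card_pos.ne'
        rw [mul_inv_cancel_left₀ hG]
        refine Finset.sum_congr rfl fun g _ => ?_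
        rw [hβreal]
      calc ∑ x : G, (θ : G → ℂ) x * ∑ n : N, β (x * n)
          = ∑ x : G, ∑ n : N, (θ : G → ℂ) (x * n) * β (x * n) := by
            refine Finset.sum_congr rfl fun x _ => ?_
            rw [Finset.mul_sum]
            refine Finset.sum_congr rfl fun n _ => ?_
            rw [hinv]
        _ = ∑ n : N, ∑ x : G, (θ : G → ℂ) (x * n) * β (x * n) := Finset.sum_comm
        _ = ∑ n : N, ∑ g : G, (θ : G → ℂ) g * β g := by
            refine Finset.sum_congr rfl fun n _ => ?_
            exact Fintype.sum_equiv (Equiv.mulRight (n : G)) _ _ (fun _ => rfl)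
        _ = (Nat.card N : ℂ) * ∑ g : G, (θ : G → ℂ) g * β g := by
            rw [Finset.sum_const, Finset.card_univ, nsmul_eq_mul, Nat.card_eq_fintype_card]
        _ = _ := by rw [hsum]; ring
    simp_rw [hA, Finset.sum_mul]
    rw [Finset.sum_comm]
    push_cast
    rw [Finset.mul_sum]
    refine Finset.sum_congr rfl fun θ _ => ?_
    by_cases h : I θ
    · simp only [if_pos h]
      have := hB θ h
      calc ∑ x : G, (ma θ : ℂ) * ((Nat.card N : ℂ) * (θ : G → ℂ) x) * ∑ n : N, β (x * n)
          = (ma θ : ℂ) * (Nat.card N : ℂ) * ∑ x : G, (θ : G → ℂ) x * ∑ n : N, β (x * n) := by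
            rw [Finset.mul_sum]
            refine Finset.sum_congr rfl fun x _ => ?_
            ring
        _ = _ := by rw [this]; ring
    · simp [if_neg h]

theorem class_two_normal_abelian [Finite G] (χ : G → ℂ) (hχ : IsIrrCharacter G χ)
    (hfaith : ∀ g : G, χ g = χ 1 → g = 1) (k : ℕ) (hk : Nat.Coprime k (Nat.card G))
    (hirr : IsIrrCharacter G (fun g => χ g * χ (g ^ k)))
    (N : Subgroup G) [N.Normal]
    (hcomm : ∀ a ∈ N, ∀ b ∈ N, a⁻¹ * b⁻¹ * a * b ∈ Subgroup.center G)
    (hB1 : ConjCentral N) : ∀ a ∈ N, ∀ b ∈ N, a * b = b * a := by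
  by_contra hnab
  classical
  have : Fintype G := Fintype.ofFinite G
  have : Fintype N := Fintype.ofFinite N
  have hT := twisted_of_faithful χ hχ hfaith
  have hT' := hT.pow k hk
  have hχc := Helper74.isCharacter_of_isIrr hχ
  have hχ'c := Helper82.galoisConj_isCharacter hχc k hk
  have hχ'i := Helper82.galoisConj_isIrrCharacter hχ k hk
  set a : G → ℝ := fun g => ‖χ g‖ ^ 2 with ha
  set b : G → ℝ := fun g => ‖χ (g ^ k)‖ ^ 2 with hb
  have ha0 : ∀ g, 0 ≤ a g := fun g => by positivity
  have hb0 : ∀ g, 0 ≤ b g := fun g => by positivity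
  obtain ⟨d, hd, hd1⟩ := Helper15.irr_degree_pos hχ
  have hχ1 : χ 1 ≠ 0 := by rw [hd1]; exact_mod_cast hd.ne'
  have ha1 : 0 < a 1 := by
    show 0 < ‖χ 1‖ ^ 2
    have := norm_pos_iff.mpr hχ1
    positivity
  have hb1 : b 1 = a 1 := by simp [a, b]
  have hNpos : (0 : ℝ) < Nat.card N := by exact_mod_cast Nat.card_pos
  -- `∑ a b = |G|`
  have hab : ∑ g : G, a g * b g = Nat.card G := by
    have h1 := Helper79.classInner_irr_self (⟨_, hirr⟩ : IrrCharacter G)
    have := Helper74.sum_norm_sq_of_inner_one h1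
    rw [← this]
    refine Finset.sum_congr rfl fun g _ => ?_
    simp only [a, b, norm_mul, mul_pow]
  let F : G → ℝ := fun x => ∑ n : N, a (x * n) * b (x * n)
  have hF0 : ∀ x, 0 ≤ F x := fun x => Finset.sum_nonneg fun n _ => mul_nonneg (ha0 _) (hb0 _)
  have hFsum : ∑ x : G, F x = Nat.card N * Nat.card G := by
    show ∑ x : G, ∑ n : N, a (x * n) * b (x * n) = _
    rw [Finset.sum_comm]
    have : ∀ n : N, ∑ x : G, a (x * n) * b (x * n) = Nat.card G := fun n => by
      rw [← hab]
      exact Fintype.sum_equiv (Equiv.mulRight (n : G)) _ _ (fun _ => rfl)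
    simp_rw [this]
    rw [Finset.sum_const, Finset.card_univ, nsmul_eq_mul, ← Nat.card_eq_fintype_card (α := N)]
  have hF1 : a 1 * b 1 ≤ F 1 := by
    have := Finset.single_le_sum (f := fun n : N => a (1 * n) * b (1 * n))
      (fun n _ => mul_nonneg (ha0 _) (hb0 _)) (Finset.mem_univ (1 : N))
    show a 1 * b 1 ≤ ∑ n : N, a (1 * n) * b (1 * n)
    simpa using this
  have hper : ∀ x : G, (∑ n : N, a (x * n)) * (∑ n : N, b (x * n))
      ≤ Nat.card N * F x - (if x ∈ N then (Nat.card N : ℝ) / 2 * F x else 0) := by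
    intro x
    obtain ⟨c, hc1, hc2, hc3⟩ := coset_identity hT hT' N hcomm hB1 x
    have hc3' : (∑ n : N, a (x * n)) * (∑ n : N, b (x * n)) = c * F x := hc3
    rw [hc3']
    split_ifs with hx
    · have h2 : 2 * c ≤ Nat.card N := hc2 hx hnab
      have h3 : (2 * c : ℝ) ≤ Nat.card N := by exact_mod_cast h2
      nlinarith [hF0 x]
    · have h3 : (c : ℝ) ≤ Nat.card N := by exact_mod_cast hc1
      nlinarith [hF0 x]
  have hub : ∑ x : G, (∑ n : N, a (x * n)) * (∑ n : N, b (x * n))
      ≤ (Nat.card N : ℝ) ^ 2 * Nat.card G - (Nat.card N : ℝ) / 2 * (a 1 * b 1) := by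
    have hite : (Nat.card N : ℝ) / 2 * (a 1 * b 1)
        ≤ ∑ x : G, (if x ∈ N then (Nat.card N : ℝ) / 2 * F x else 0) := by
      have h1 := Finset.single_le_sum
        (f := fun x : G => if x ∈ N then (Nat.card N : ℝ) / 2 * F x else 0)
        (fun x _ => by
          show (0:ℝ) ≤ if x ∈ N then (Nat.card N : ℝ) / 2 * F x else 0
          split_ifs
          · have := hF0 x
            positivity
          · exact le_refl _) (Finset.mem_univ (1 : G))
      simp only [N.one_mem, if_true] at h1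
      refine le_trans ?_ h1
      have : (0 : ℝ) ≤ (Nat.card N : ℝ) / 2 := by positivity
      exact mul_le_mul_of_nonneg_left hF1 this
    calc ∑ x : G, (∑ n : N, a (x * n)) * (∑ n : N, b (x * n))
        ≤ ∑ x : G, (Nat.card N * F x - (if x ∈ N then (Nat.card N : ℝ) / 2 * F x else 0)) :=
          Finset.sum_le_sum fun x _ => hper x
      _ = Nat.card N * ∑ x : G, F x
            - ∑ x : G, (if x ∈ N then (Nat.card N : ℝ) / 2 * F x else 0) := by
          rw [Finset.sum_sub_distrib, Finset.mul_sum]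
      _ ≤ _ := by
          rw [hFsum]
          nlinarith [hite]
  -- lower bound
  let α : G → ℂ := fun g => χ g * conj (χ g)
  let β : G → ℂ := fun g => χ (g ^ k) * conj (χ (g ^ k))
  have hα : IsCharacter G α := Helper74.isCharacter_mul hχc (Helper74.isCharacter_conj hχc)
  have hβ : IsCharacter G β := Helper74.isCharacter_mul hχ'c (Helper74.isCharacter_conj hχ'c)
  have hβreal : ∀ g, conj (β g) = β g := fun g => by
    simp only [β, map_mul, Complex.conj_conj]
    ring
  have hα1 : classInner α (fun _ => (1 : ℂ)) = 1 := by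
    have h := Helper79.classInner_irr_self (⟨χ, hχ⟩ : IrrCharacter G)
    have h2 : classInner α (fun _ => (1 : ℂ)) = classInner χ χ := by simp [classInner, α]
    rw [h2]
    exact h
  have hβ1 : classInner β (fun _ => (1 : ℂ)) = 1 := by
    have h := Helper79.classInner_irr_self (⟨_, hχ'i⟩ : IrrCharacter G)
    have h2 : classInner β (fun _ => (1 : ℂ)) = classInner (fun g => χ (g ^ k))
        (fun g => χ (g ^ k)) := by simp [classInner, β]
    rw [h2]
    exact h
  obtain ⟨r, hr, hreq⟩ := lower_bound N hα hβ hβreal hα1 hβ1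
  have hαa : ∀ g, α g = ((a g : ℝ) : ℂ) := fun g => Helper74.mul_conj_eq_norm_sq _
  have hβb : ∀ g, β g = ((b g : ℝ) : ℂ) := fun g => Helper74.mul_conj_eq_norm_sq _
  have hlb : ((Nat.card N : ℝ) ^ 2 * Nat.card G * r : ℝ)
      = ∑ x : G, (∑ n : N, a (x * n)) * (∑ n : N, b (x * n)) := by
    have : ((∑ x : G, (∑ n : N, a (x * n)) * (∑ n : N, b (x * n)) : ℝ) : ℂ)
        = (((Nat.card N : ℝ) ^ 2 * Nat.card G * r : ℝ) : ℂ) := by
      push_cast
      rw [← hreq]
      refine Finset.sum_congr rfl fun x _ => ?_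
      simp only [hαa, hβb]
    exact_mod_cast this.symm
  have hr' : (1 : ℝ) ≤ r := by exact_mod_cast hr
  have hGpos : (0 : ℝ) < Nat.card G := by exact_mod_cast Nat.card_pos
  have h1 : (Nat.card N : ℝ) ^ 2 * Nat.card G ≤ (Nat.card N : ℝ) ^ 2 * Nat.card G * r := by
    have : (0:ℝ) ≤ (Nat.card N : ℝ) ^ 2 * Nat.card G := by positivity
    nlinarith
  have h2 : 0 < (Nat.card N : ℝ) / 2 * (a 1 * b 1) := by
    rw [hb1]
    positivity
  linarith

/-- The central character of a faithful irreducible character, as an injective homomorphism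
`Z(G) →* ℂˣ`. -/
theorem exists_central_hom [Finite G] (χ : G → ℂ) (hχ : IsIrrCharacter G χ)
    (hfaith : ∀ g : G, χ g = χ 1 → g = 1) :
    ∃ μ : ↥(Subgroup.center G) →* ℂˣ, Function.Injective μ := by
  have hT := twisted_of_faithful χ hχ hfaith
  obtain ⟨d, hd, hd1⟩ := Helper15.irr_degree_pos hχ
  have hχ1 : χ 1 ≠ 0 := by rw [hd1]; exact_mod_cast hd.ne'
  let ν : G → ℂ := fun z => χ z / χ 1
  have hν0 : ∀ z ∈ Subgroup.center G, ν z ≠ 0 := by
    intro z hz h0
    have := hT.norm_one z hz
    change ‖ν z‖ = 1 at this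
    rw [h0, norm_zero] at this
    exact zero_ne_one this
  have hνmul : ∀ z ∈ Subgroup.center G, ∀ z' ∈ Subgroup.center G, ν (z * z') = ν z * ν z' := by
    intro z _ z' hz'
    have h1 : χ (z * z') = ν z' * χ z := hT.central z' hz' z
    show χ (z * z') / χ 1 = χ z / χ 1 * ν z'
    rw [h1]
    ring
  let μ : ↥(Subgroup.center G) →* ℂˣ := MonoidHom.mk'
    (fun z => Units.mk0 (ν (z : G)) (hν0 z z.2))
    (fun z z' => by
      apply Units.ext
      simp only [Units.val_mk0, Units.val_mul, Subgroup.coe_mul]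
      exact hνmul z z.2 z' z'.2)
  refine ⟨μ, ?_⟩
  rw [injective_iff_map_eq_one]
  intro z hz
  have h1 : ν (z : G) = 1 := by
    have := congrArg Units.val hz
    simpa [μ] using this
  exact Subtype.ext (hT.inj z z.2 h1)

end Cfsg.Agent.Helper79.IrrProd
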